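import Mathlib.AlgebraicGeometry.ValuativeCriterion
import Mathlib.AlgebraicGeometry.AffineTransitionLimit
import Mathlib.AlgebraicGeometry.Morphisms.Integral
import Mathlib.AlgebraicGeometry.Morphisms.Finite
import Mathlib.CategoryTheory.Limits.Over
import Mathlib.CategoryTheory.Limits.Connected

/-!
# Limits of finite morphisms are integral
-/

set_option autoImplicit false
set_option linter.all false
set_option backward.isDefEq.respectTransparency false
universe u

open CategoryTheory CategoryTheory.Limits AlgebraicGeometry Opposite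

namespace Groth.Agent.EtTower

variable {ι : Type u} [Preorder ι] [IsDirected ι (· ≤ ·)] [Nonempty ι] {S : Scheme.{u}} (Xs : ιᵒᵖ ⥤ Over S)

/-- Transition morphisms of a system of finite `S`-schemes are affine. -/
theorem isAffineHom_map (hfin : ∀ i, IsFinite (Xs.obj i).hom) {a b : ιᵒᵖ} (f : a ⟶ b) :
    IsAffineHom ((Xs ⋙ Over.forget S).map f) := by
  haveI := hfin a; haveI := hfin b
  haveI : IsAffineHom ((Xs.map f).left ≫ (Xs.obj b).hom) := by rw [Over.w]; infer_instance
  exact IsAffineHom.of_comp (Xs.map f).left (Xs.obj b).hom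

/-- The underlying scheme of the limit. -/
noncomputable def isLimitLeft (c : Cone Xs) (hc : IsLimit c) : IsLimit ((Over.forget S).mapCone c) :=
  haveI : IsConnected ιᵒᵖ := IsCofiltered.isConnected _
  isLimitOfPreserves (Over.forget S) hc

/-- A limit of finite `S`-schemes is integral over `S`. -/
theorem isIntegralHom_limit (hfin : ∀ i, IsFinite (Xs.obj i).hom) (c : Cone Xs) (hc : IsLimit c) :
    IsIntegralHom c.pt.hom := by
  haveI : ∀ {a b : ιᵒᵖ} (f : a ⟶ b), IsAffineHom ((Xs ⋙ Over.forget S).map f) := fun f => isAffineHom_map Xs hfin f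
  let hl := isLimitLeft Xs c hc
  obtain ⟨i₀⟩ := ‹Nonempty ι›
  haveI : IsAffineHom (c.π.app (op i₀)).left := isAffineHom_π_app _ _ hl (op i₀)
  haveI := hfin (op i₀)
  haveI : IsAffineHom c.pt.hom := by
    rw [show c.pt.hom = (c.π.app (op i₀)).left ≫ (Xs.obj (op i₀)).hom from (Over.w _).symm]; infer_instance
  refine IsIntegralHom.iff_universallyClosed_and_isAffineHom.mpr ⟨?_, inferInstance⟩
  refine UniversallyClosed.of_valuativeCriterion _ fun Q => ?_
  have hex : ∀ a : ιᵒᵖ, ∃ l : Spec (CommRingCat.of Q.R) ⟶ (Xs.obj a).left,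
      Spec.map (CommRingCat.ofHom (algebraMap Q.R Q.K)) ≫ l = Q.i₁ ≫ (c.π.app a).left ∧
        l ≫ (Xs.obj a).hom = Q.i₂ ∧
      ∀ l', Spec.map (CommRingCat.ofHom (algebraMap Q.R Q.K)) ≫ l' = Q.i₁ ≫ (c.π.app a).left →
        l' ≫ (Xs.obj a).hom = Q.i₂ → l' = l := by
    intro a
    haveI := hfin a
    have hp : IsProper (Xs.obj a).hom := inferInstance
    rw [IsProper.eq_valuativeCriterion] at hp
    let Qa : ValuativeCommSq (Xs.obj a).hom :=
      { R := Q.R, K := Q.K, i₁ := Q.i₁ ≫ (c.π.app a).left, i₂ := Q.i₂,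
        commSq := ⟨by rw [Category.assoc, Over.w]; exact Q.commSq.w⟩ }
    obtain ⟨hu⟩ := hp.1.1.1 Qa
    exact ⟨hu.default.l, hu.default.fac_left, hu.default.fac_right,
      fun l' h1 h2 => congrArg CommSq.LiftStruct.l (hu.uniq ⟨l', h1, h2⟩)⟩
  choose l hl1 hl2 huniq using hex
  let s : Cone (Xs ⋙ Over.forget S) :=
    { pt := Spec (CommRingCat.of Q.R)
      π :=
        { app := l
          naturality := fun a b f => by
            show 𝟙 _ ≫ l b = l a ≫ (Xs.map f).left
            rw [Category.id_comp]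
            refine (huniq b _ ?_ ?_).symm
            · rw [← Category.assoc, hl1, Category.assoc, ← Over.comp_left, c.w]
            · rw [Category.assoc, Over.w, hl2] } }
  refine ⟨⟨⟨hl.lift s, hl.hom_ext fun a => ?_, ?_⟩⟩⟩
  · rw [Category.assoc]
    erw [hl.fac]
    exact hl1 a
  · have h := hl.fac s (op i₀)
    have h2 : hl.lift s ≫ (c.π.app (op i₀)).left = l (op i₀) := h
    have h3 : (c.π.app (op i₀)).left ≫ (Xs.obj (op i₀)).hom = c.pt.hom := Over.w _
    exact (congrArg (hl.lift s ≫ ·) h3).symm.trans ((Category.assoc _ _ _).symm.trans ((congrArg (· ≫ _) h2).trans (hl2 _)))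

end Groth.Agent.EtTower
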