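import Groth.Agent.EtTower.Limit
import Groth.Agent.Et18.FiniteEtaleTrace
import Groth.Agent.Et18.CompCrit.Nice
import Groth.Agent.Et18.HpullComp
import Groth.Agent.Et18.AcyclicComp
import Groth.Agent.Et18.CdField
import Groth.Agent.Et18.JCont
import Groth.Agent.S0646

/-!
# Cohomology along pro-finite étale maps of degree prime to ℓ
-/

set_option autoImplicit false
set_option linter.all false
set_option backward.isDefEq.respectTransparency.types false
set_option backward.isDefEq.respectTransparency false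
universe u

open CategoryTheory CategoryTheory.Limits AlgebraicGeometry Opposite

namespace Groth.Agent.EtTower

open Et18

theorem exists_bezout {ℓ d : ℕ} (hℓ : ℓ.Prime) (hd : ℓ.Coprime d) (m : ℕ) (hm : 0 < m)
    (hp : ∀ p : ℕ, p.Prime → p ∣ m → p = ℓ) : m.Coprime d := by
  refine Nat.coprime_of_dvd fun p hp' h1 h2 => ?_
  have := hp p hp' h1
  subst this
  exact (hp'.coprime_iff_not_dvd.1 hd) h2

/-- Multiplication by an integer prime to `ℓ` is invertible on an `ℓ`-power torsion sheaf. -/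
theorem isIso_nsmul {X : Scheme.{u}} {ℓ : ℕ} (hℓ : ℓ.Prime) {d : ℕ} (hd : ℓ.Coprime d) (G : EtCoh.Ab X)
    (hG : EtAcyc.IsLTorsion {ℓ} G) : IsIso (d • 𝟙 G) := by
  refine isIso_of_stalks_family (ι := ULift.{u + 1} X) (fun y => algPoint X y.down)
    (fun y => ⟨⟨y⟩, algPoint_default X y⟩) _ fun y => ?_
  let η := algPoint X y.down
  haveI : (EtCoh.stalk η).Additive := Functor.additive_of_preserves_binary_products _
  rw [Functor.map_nsmul, CategoryTheory.Functor.map_id, ConcreteCategory.isIso_iff_bijective]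
  have key : ∀ a : (EtCoh.stalk η).obj G, ∃ m : ℕ, m • a = 0 ∧ m.Coprime d := fun a => by
    obtain ⟨m, hm, h0⟩ := (isLTorsion_iff_stalks G {ℓ}).1 hG _ η a
    exact ⟨m, h0, exists_bezout hℓ hd m hm.1 fun p hp hpd => hm.2 p hp hpd⟩
  have happ : ∀ a, (d • 𝟙 ((EtCoh.stalk η).obj G)) a = d • a := fun a => rfl
  have hsol : ∀ a : (EtCoh.stalk η).obj G, ∃ k : ℤ, ∀ b : (EtCoh.stalk η).obj G, (∃ j : ℤ, b = j • a) →
      k • (d : ℤ) • b = b := fun a => by
    obtain ⟨m, hm, hc⟩ := key a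
    refine ⟨Nat.gcdB m d, ?_⟩
    rintro b ⟨j, rfl⟩
    have h : (1 : ℤ) = m * Nat.gcdA m d + d * Nat.gcdB m d := by
      rw [← Nat.gcd_eq_gcd_ab, hc.gcd_eq_one]; rfl
    have hm' : (m : ℤ) • a = 0 := by rw [natCast_zsmul]; exact hm
    calc Nat.gcdB m d • (d : ℤ) • j • a = j • ((1 : ℤ) • a) - j • (Nat.gcdA m d • ((m : ℤ) • a)) := by
          rw [h]; simp only [add_smul, smul_smul, smul_add, mul_comm, mul_assoc, mul_left_comm]; abel
      _ = j • a := by rw [hm', smul_zero, smul_zero, sub_zero, one_zsmul]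
  constructor
  · rw [injective_iff_map_eq_zero]
    intro a ha
    obtain ⟨k, hk⟩ := hsol a
    rw [happ] at ha
    rw [← hk a ⟨1, (one_zsmul a).symm⟩, natCast_zsmul, ha, smul_zero]
  · intro a
    obtain ⟨k, hk⟩ := hsol a
    refine ⟨k • a, ?_⟩
    rw [happ, ← natCast_zsmul, smul_comm]
    exact hk a ⟨1, (one_zsmul a).symm⟩

variable {X S : Scheme.{u}}

theorem Hpull_eq_HofPush_unit (π : X ⟶ S) [PreservesFiniteLimits (EtCoh.pull π)] (G : EtCoh.Ab S) (n : ℕ)
    (z : EtCoh.H S G n) :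
    EtCore.Hpull π G n z = EtLim.HofPush π ((EtCoh.pull π).obj G) n
      ((EtCoh.HF S n).map ((EtCoh.pullPushAdj π).unit.app G) z) := by
  have h1 := CompCrit.Hpull_natural π ((EtCoh.pullPushAdj π).unit.app G) n z
  refine Eq.symm ((congrArg (fun w => (EtCoh.HF X n).map ((EtCoh.pullPushAdj π).counit.app _) w) h1).trans ?_)
  refine (CompCrit.HF_map_comp_apply _ _ n _).trans ?_
  have h2 : (EtCoh.HF X n).map ((EtCoh.pull π).map ((EtCoh.pullPushAdj π).unit.app G) ≫
      (EtCoh.pullPushAdj π).counit.app ((EtCoh.pull π).obj G)) = 𝟙 _ :=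
    (congrArg (EtCoh.HF X n).map ((EtCoh.pullPushAdj π).left_triangle_components G)).trans
      ((EtCoh.HF X n).map_id _)
  exact congrArg (fun k => (ConcreteCategory.hom k) (EtCore.Hpull π G n z)) h2

/-- Pullback along a finite étale map of degree prime to `ℓ` is injective on `ℓ`-power torsion cohomology. -/
theorem Hpull_injective_finiteEtale (π : X ⟶ S) [IsFinite π] [Etale π] [PreservesFiniteLimits (EtCoh.pull π)]
    {ℓ : ℕ} (hℓ : ℓ.Prime) {d : ℕ} (hd : ℓ.Coprime d)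
    (hdeg : ∀ (Ω : Type u) [Field Ω] [IsAlgClosed Ω] (η : Spec (CommRingCat.of Ω) ⟶ S),
      Nat.card {t : Spec (CommRingCat.of Ω) ⟶ X // t ≫ π = η} = d)
    (G : EtCoh.Ab S) (hG : EtAcyc.IsLTorsion {ℓ} G) (n : ℕ) : Function.Injective (EtCore.Hpull π G n) := by
  haveI : EtShriek.JCont π := jCont π
  have hfr : ∀ x : S, π.finrank x = d := fun x => by
    obtain ⟨-, hcard, -⟩ := card_pointLift π (algPoint S x)
    rw [algPoint_default] at hcard
    rw [← hcard]
    exact hdeg _ (algPoint S x)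
  haveI := isIso_nsmul hℓ hd G hG
  let u := (EtCoh.pullPushAdj π).unit.app G
  let T := (pushPullAdj π).counit.app G
  have hinj : Function.Injective ((EtCoh.HF S n).map u) := by
    have hb : Function.Bijective ((EtCoh.HF S n).map (u ≫ T)) := by
      rw [unit_trace π d hfr G]; exact ConcreteCategory.bijective_of_isIso _
    intro a b hab
    refine hb.1 ?_
    rw [← CompCrit.HF_map_comp_apply, ← CompCrit.HF_map_comp_apply, hab]
  intro a b hab
  rw [Hpull_eq_HofPush_unit, Hpull_eq_HofPush_unit] at hab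
  exact hinj ((CompCrit.bijective_HofPush π _ n).1 hab)

theorem Hpull_congr_zero {f g : X ⟶ S} (h : f = g) [PreservesFiniteLimits (EtCoh.pull f)]
    [PreservesFiniteLimits (EtCoh.pull g)] (G : EtCoh.Ab S) (n : ℕ) (z : EtCoh.H S G n) :
    EtCore.Hpull f G n z = 0 ↔ EtCore.Hpull g G n z = 0 := by
  subst h; rfl

theorem Hpull_comp_zero {Y : Scheme.{u}} (f : X ⟶ Y) (g : Y ⟶ S) [PreservesFiniteLimits (EtCoh.pull f)]
    [PreservesFiniteLimits (EtCoh.pull g)] [PreservesFiniteLimits (EtCoh.pull (f ≫ g))]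
    (G : EtCoh.Ab S) (n : ℕ) (z : EtCoh.H S G n) :
    EtCore.Hpull f _ n (EtCore.Hpull g G n z) = 0 ↔ EtCore.Hpull (f ≫ g) G n z = 0 := by
  rw [HpullComp.Hpull_comp]
  exact (injective_iff_map_eq_zero' _).1 (ConcreteCategory.bijective_of_isIso _).1 _

variable {ι : Type u} [Preorder ι] [IsDirected ι (· ≤ ·)] [Nonempty ι]

/-- Pullback to a limit of finite étale covers of degree prime to `ℓ` is injective. -/
theorem Hpull_injective_limit (Xs : ιᵒᵖ ⥤ Over S) [CompactSpace ↥S] [QuasiSeparatedSpace ↥S]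
    (hfin : ∀ i, IsFinite (Xs.obj i).hom) (het : ∀ i, AlgebraicGeometry.Etale (Xs.obj i).hom)
    {ℓ : ℕ} (hℓ : ℓ.Prime) (d : ιᵒᵖ → ℕ) (hd : ∀ i, ℓ.Coprime (d i))
    (hdeg : ∀ (i : ιᵒᵖ) (Ω : Type u) [Field Ω] [IsAlgClosed Ω] (η : Spec (CommRingCat.of Ω) ⟶ S),
      Nat.card {t : Spec (CommRingCat.of Ω) ⟶ (Xs.obj i).left // t ≫ (Xs.obj i).hom = η} = d i)
    (c : Cone Xs) (hc : IsLimit c) [PreservesFiniteLimits (EtCoh.pull c.pt.hom)]
    (G : EtCoh.Ab S) (hG : EtAcyc.IsLTorsion {ℓ} G) (n : ℕ) :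
    Function.Injective (EtCore.Hpull c.pt.hom G n) := by
  haveI : ∀ {A B : Scheme.{u}} (f : A ⟶ B), PreservesFiniteLimits (EtCoh.pull f) := fun f => inferInstance
  obtain ⟨i₀⟩ := ‹Nonempty ι›
  have haff : ∀ ⦃a b : ιᵒᵖ⦄ (h : a ⟶ b), IsAffineHom ((Xs ⋙ Over.forget S).map h) :=
    fun a b h => isAffineHom_map Xs hfin h
  have hqc : ∀ a, CompactSpace ↥((Xs ⋙ Over.forget S).obj a) := fun a => by
    haveI := hfin a; exact QuasiCompact.compactSpace_of_compactSpace (Xs.obj a).hom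
  have hqs : ∀ a, QuasiSeparatedSpace ↥((Xs ⋙ Over.forget S).obj a) := fun a => by
    haveI := hfin a; exact quasiSeparatedSpace_of_quasiSeparated (Xs.obj a).hom
  rw [injective_iff_map_eq_zero]
  intro z hz
  let g0 := (Xs.obj (op i₀)).hom
  have hlim := (S0646.result (Xs ⋙ Over.forget S) haff hqc hqs ((Over.forget S).mapCone c)
    (isLimitLeft Xs c hc) i₀ ((EtCoh.pull g0).obj G) n).2
  let f0 := (c.π.app (op i₀)).left
  let e0 := (Xs.map (homOfLE (le_refl i₀)).op).left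
  let ξj := EtCore.Hpull e0 _ n (EtCore.Hpull g0 G n z)
  have h0 : EtCore.HpullVia f0 e0 f0 (by
      show (c.π.app (op i₀)).left ≫ (Xs.map _).left = _
      rw [← Over.comp_left, c.w]) ((EtCoh.pull g0).obj G) n ξj = 0 := by
    show (EtCoh.HF _ n).map _ (EtCore.Hpull f0 _ n ξj) = 0
    have hw : f0 ≫ e0 = f0 := by
      show (c.π.app (op i₀)).left ≫ (Xs.map _).left = _
      rw [← Over.comp_left, c.w]
    have hz' : EtCore.Hpull f0 _ n ξj = 0 := by
      refine (Hpull_comp_zero f0 e0 _ n _).2 ((Hpull_congr_zero hw _ n _).2 ?_)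
      exact (Hpull_comp_zero f0 g0 G n z).2 ((Hpull_congr_zero (Over.w (c.π.app (op i₀))) G n z).2 hz)
    rw [hz', map_zero]
  obtain ⟨k, hk, hk0⟩ := hlim i₀ le_rfl ξj h0
  let ek := (Xs.map (homOfLE hk).op).left
  have hek : EtCore.Hpull ek _ n ξj = 0 := hk0
  have h1 := (Hpull_comp_zero ek e0 _ n _).1 hek
  have h2 := (Hpull_comp_zero (ek ≫ e0) g0 G n z).1 h1
  have h3 : (ek ≫ e0) ≫ g0 = (Xs.obj (op k)).hom := by
    show ((Xs.map _).left ≫ (Xs.map _).left) ≫ (Xs.obj (op i₀)).hom = _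
    rw [Category.assoc, Over.w, Over.w]
  have h4 := (Hpull_congr_zero h3 G n z).1 h2
  haveI := hfin (op k); haveI := het (op k)
  exact (injective_iff_map_eq_zero _).1
    (Hpull_injective_finiteEtale (Xs.obj (op k)).hom hℓ (hd _) (hdeg _) G hG n) z h4

/-- Direct images along integral morphisms keep `ℓ`-power torsion sheaves `ℓ`-power torsion. -/
theorem isLTorsion_push (g : X ⟶ S) [IsIntegralHom g] (L : Set ℕ) (F : EtCoh.Ab X)
    (hF : EtAcyc.IsLTorsion L F) : EtAcyc.IsLTorsion L ((EtCoh.push g).obj F) := by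
  intro U s x
  obtain ⟨_, ⟨O, hO, rfl⟩, hxO, -⟩ :=
    U.left.isBasis_affineOpens.exists_subset_of_mem_open (Set.mem_univ x) isOpen_univ
  let O : U.left.Opens := O
  let V : S.Etale := MorphismProperty.Over.mk ⊤ (O.ι ≫ U.hom) (show Etale _ by
    haveI : Etale U.hom := U.prop
    infer_instance)
  let φ : V ⟶ U := MorphismProperty.Over.homMk O.ι rfl trivial
  let B := (EtCoh.bc g).obj V
  haveI : IsAffine V.left := hO
  haveI : CompactSpace ↥B.left := by
    haveI : IsAffineHom (pullback.fst V.hom g) := MorphismProperty.pullback_fst _ _ inferInstance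
    haveI : CompactSpace ↥V.left := inferInstance
    exact QuasiCompact.compactSpace_of_compactSpace (Y := V.left) (pullback.fst V.hom g)
  let t : EtCoh.sect F B := ((EtCoh.push g).obj F).obj.map φ.op s
  obtain ⟨m, hm, h0⟩ := exists_smul_eq_zero_of_compactSpace F L hF B t
  exact ⟨V, φ, m, ⟨(⟨x, hxO⟩ : O), rfl⟩, hm, h0⟩

end Groth.Agent.EtTower
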